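import Mathlib

/-!
# Faithful actions of the alternating group of degree five on a group of order sixteen and exponent two
-/

set_option autoImplicit false

namespace Cfsg.Agent.Transfer.AEightA5

open Equiv Subgroup

/-- The alternating group of degree five. -/
abbrev A5 : Type := ↥(alternatingGroup (Fin 5))

/-- Two commuting involutions. -/
def i1 : A5 := ⟨swap 0 1 * swap 2 3, by rw [Equiv.Perm.mem_alternatingGroup]; decide⟩
/-- Two commuting involutions. -/
def i2 : A5 := ⟨swap 0 2 * swap 1 3, by rw [Equiv.Perm.mem_alternatingGroup]; decide⟩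

set_option maxRecDepth 8000 in
theorem i_facts : i1 * i1 = 1 ∧ i2 * i2 = 1 ∧ i1 * i2 = i2 * i1 ∧ i1 ≠ 1 ∧ i2 ≠ 1 ∧ i1 * i2 ≠ 1 := by
  decide

set_option maxRecDepth 8000 in
set_option maxHeartbeats 4000000 in
theorem exists_five : ∀ u : A5, u * u = 1 → u ≠ 1 → ∃ g : A5, (u * (g * u * g⁻¹)) ^ 5 = 1 ∧ u * (g * u * g⁻¹) ≠ 1 := by
  decide +kernel

set_option maxRecDepth 8000 in
set_option maxHeartbeats 4000000 in
theorem conj_involution : ∀ u : A5, u * u = 1 → u ≠ 1 → ∃ g : A5, g * i1 * g⁻¹ = u := by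
  decide +kernel

theorem card_A5 : Nat.card A5 = 60 := by
  rw [Nat.card_eq_fintype_card]; decide +kernel

/-- The elements of order five generate. -/
theorem closure_five (H : Subgroup A5) (h : ∀ g : A5, g ^ 5 = 1 → g ∈ H) : H = ⊤ := by
  haveI : IsSimpleGroup A5 := alternatingGroup.isSimpleGroup_five
  set N : Subgroup A5 := closure {g : A5 | g ^ 5 = 1}
  haveI : N.Normal := by
    refine ⟨fun x hx g => ?_⟩
    have hle : N ≤ N.comap (MulAut.conj g).toMonoidHom := (closure_le _).mpr fun y (hy : y ^ 5 = 1) =>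
      subset_closure (show (g * y * g⁻¹) ^ 5 = 1 by rw [conj_pow, hy, mul_one, mul_inv_cancel])
    exact hle hx
  refine top_le_iff.mp (le_trans (le_of_eq ?_) ((closure_le _).mpr h))
  refine ((inferInstance : N.Normal).eq_bot_or_eq_top.resolve_left fun e => ?_).symm
  obtain ⟨g, h5, hg⟩ := exists_five i1 i_facts.1 i_facts.2.2.2.1
  exact hg (mem_bot.mp (e ▸ subset_closure h5))

universe v

variable {V : Type v} [Group V] [Finite V] (ρ : A5 →* MulAut V)

/-- The fixed points of an element. -/
def fix (u : A5) : Subgroup V where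
  carrier := {x | ρ u x = x}
  one_mem' := map_one _
  mul_mem' := fun {x y} hx hy => by
    show ρ u (x * y) = x * y
    rw [map_mul, show ρ u x = x from hx, show ρ u y = y from hy]
  inv_mem' := fun {x} hx => by
    show ρ u x⁻¹ = x⁻¹
    rw [map_inv, show ρ u x = x from hx]

theorem mem_fix {u : A5} {x : V} : x ∈ fix ρ u ↔ ρ u x = x := Iff.rfl

variable (hsq : ∀ x : V, x * x = 1) (h16 : Nat.card V = 16) (hρ : ρ ≠ 1)
include hsq h16 hρ

theorem injective : Function.Injective ρ := by
  haveI : IsSimpleGroup A5 := alternatingGroup.isSimpleGroup_five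
  rw [← MonoidHom.ker_eq_bot_iff]
  refine (inferInstance : ρ.ker.Normal).eq_bot_or_eq_top.resolve_right fun e => hρ (MonoidHom.ext fun g => ?_)
  exact MonoidHom.mem_ker.mp (e ▸ mem_top g)

/-- Elements of order five act without fixed points. -/
theorem fix_five {g : A5} (h5 : g ^ 5 = 1) (hg : g ≠ 1) : fix ρ g = ⊥ := by
  haveI : Fact (Nat.Prime 5) := ⟨by norm_num⟩
  letI : MulAction ↥(zpowers g) V :=
    { smul := fun z x => ρ z x
      one_smul := fun x => by show ρ _ x = x; simp
      mul_smul := fun a b x => by show ρ _ x = ρ _ (ρ _ x); simp }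
  have hord : orderOf g = 5 := orderOf_eq_prime h5 hg
  have hP : IsPGroup 5 ↥(zpowers g) := IsPGroup.of_card (n := 1) (by rw [Nat.card_zpowers, hord, pow_one])
  have hmod := hP.card_modEq_card_fixedPoints V
  have hfix : Nat.card ↥(MulAction.fixedPoints ↥(zpowers g) V) = Nat.card ↥(fix ρ g) := by
    refine Nat.card_congr (Equiv.subtypeEquivRight fun x => ⟨fun h => h ⟨g, mem_zpowers g⟩, fun h => ?_⟩)
    rintro ⟨z, i, rfl⟩
    show ρ (g ^ i) x = x
    have : g ∈ (MulAction.stabilizer (MulAut V) x).comap ρ := h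
    exact zpow_mem this i
  rw [hfix, h16] at hmod
  have hd : Nat.card ↥(fix ρ g) ∣ 16 := h16 ▸ (fix ρ g).card_subgroup_dvd_card
  have hne : Nat.card ↥(fix ρ g) ≠ 16 := fun e => hg (by
    refine injective ρ hsq h16 hρ ?_
    rw [map_one]
    refine MulEquiv.ext fun x => ?_
    have : fix ρ g = ⊤ := eq_top_of_card_eq _ (e.trans h16.symm)
    exact (this.ge (mem_top x) : x ∈ fix ρ g))
  have hle : Nat.card ↥(fix ρ g) ≤ 16 := Nat.le_of_dvd (by norm_num) hd
  rw [← card_eq_one]
  have hpos : 0 < Nat.card ↥(fix ρ g) := Nat.card_pos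
  unfold Nat.ModEq at hmod
  interval_cases hn : Nat.card ↥(fix ρ g) <;> omega

theorem comm (x y : V) : x * y = y * x := by
  have hinv : ∀ z : V, z⁻¹ = z := fun z => inv_eq_of_mul_eq_one_right (hsq z)
  calc x * y = (x * y)⁻¹ := (hinv _).symm
    _ = y⁻¹ * x⁻¹ := mul_inv_rev x y
    _ = y * x := by rw [hinv, hinv]

/-- An involution fixes a four-group, which consists of the commutators. -/
theorem fix_involution {u : A5} (hu : u * u = 1) (hu1 : u ≠ 1) :
    Nat.card ↥(fix ρ u) = 4 ∧ ∀ x ∈ fix ρ u, ∃ y, y * ρ u y = x := by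
  classical
  have huu : ∀ y, ρ u (ρ u y) = y := fun y => by rw [← MulAut.mul_apply, ← map_mul, hu, map_one]; rfl
  let f : V →* V :=
    { toFun := fun y => y * ρ u y
      map_one' := by simp
      map_mul' := fun y z => by
        rw [map_mul, mul_assoc, mul_assoc]
        congr 1
        rw [← mul_assoc, ← mul_assoc, comm ρ hsq h16 hρ z (ρ u y)] }
  have hrange : f.range ≤ fix ρ u := by
    rintro _ ⟨y, rfl⟩
    show ρ u (y * ρ u y) = y * ρ u y
    rw [map_mul, huu, comm ρ hsq h16 hρ]
  have hker : f.ker = fix ρ u := by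
    ext y
    show y * ρ u y = 1 ↔ ρ u y = y
    constructor
    · intro h; rw [← inv_eq_of_mul_eq_one_right h, inv_eq_of_mul_eq_one_right (hsq y)]
    · intro h; rw [h, hsq]
  have hprod : Nat.card ↥f.range * Nat.card ↥(fix ρ u) = 16 := by
    rw [← hker, ← index_ker, index_mul_card, h16]
  obtain ⟨g, h5, hg1⟩ := exists_five u hu hu1
  set u' := g * u * g⁻¹
  have hdisj : fix ρ u ⊓ fix ρ u' = ⊥ := by
    rw [eq_bot_iff]
    rintro x ⟨h1, h2⟩
    rw [← fix_five ρ hsq h16 hρ h5 hg1]
    show ρ (u * u') x = x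
    rw [map_mul, MulAut.mul_apply, show ρ u' x = x from h2]
    exact h1
  have hconj : Nat.card ↥(fix ρ u') = Nat.card ↥(fix ρ u) := by
    refine (Nat.card_congr (Equiv.subtypeEquiv (ρ g).toEquiv fun x => ?_)).symm
    show ρ u x = x ↔ ρ u' (ρ g x) = ρ g x
    rw [← MulAut.mul_apply, ← map_mul, show u' * g = g * u by simp [u'], map_mul, MulAut.mul_apply,
      (ρ g).injective.eq_iff]
  have hsmall : Nat.card ↥(fix ρ u) * Nat.card ↥(fix ρ u) ≤ 16 := by
    nth_rewrite 2 [← hconj]
    rw [← Nat.card_prod, ← h16]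
    exact Nat.card_le_card_of_injective _ (mul_injective_of_disjoint (disjoint_iff.mpr hdisj))
  have hle : Nat.card ↥f.range ≤ Nat.card ↥(fix ρ u) := Nat.le_of_dvd Nat.card_pos (Subgroup.card_dvd_of_le hrange)
  have h4 : Nat.card ↥(fix ρ u) = 4 := by nlinarith
  refine ⟨h4, fun x hx => ?_⟩
  have heq : f.range = fix ρ u := eq_of_le_of_card_ge hrange (by rw [h4] at hprod ⊢; omega)
  exact heq.ge hx

/-- The action is irreducible. -/
theorem irred (W : Subgroup V) (hW : ∀ g : A5, ∀ x ∈ W, ρ g x ∈ W) : W = ⊥ ∨ W = ⊤ := by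
  obtain ⟨g, h5, hg⟩ := exists_five i1 i_facts.1 i_facts.2.2.2.1
  set k := i1 * (g * i1 * g⁻¹)
  haveI : Fact (Nat.Prime 5) := ⟨by norm_num⟩
  have hord : orderOf k = 5 := orderOf_eq_prime h5 hg
  letI : MulAction ↥(zpowers k) ↥W :=
    { smul := fun z x => ⟨ρ z x, hW z x x.2⟩
      one_smul := fun x => Subtype.ext (by show ρ _ (x : V) = x; simp)
      mul_smul := fun a b x => Subtype.ext (by show ρ _ (x : V) = ρ _ (ρ _ (x : V)); simp) }
  have hP : IsPGroup 5 ↥(zpowers k) := IsPGroup.of_card (n := 1) (by rw [Nat.card_zpowers, hord, pow_one])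
  have hmod := hP.card_modEq_card_fixedPoints ↥W
  have hfix : Nat.card ↥(MulAction.fixedPoints ↥(zpowers k) ↥W) = 1 := by
    refine Nat.card_eq_one_iff_unique.mpr ⟨⟨fun x y => ?_⟩, ⟨⟨1, fun z => Subtype.ext (map_one (ρ z))⟩⟩⟩
    have key : ∀ x : ↥(MulAction.fixedPoints ↥(zpowers k) ↥W), ((x : ↥W) : V) = 1 := fun x => by
      have h : ((x : ↥W) : V) ∈ fix ρ k := congrArg Subtype.val (x.2 ⟨k, mem_zpowers k⟩)
      rw [fix_five ρ hsq h16 hρ h5 hg] at h
      exact mem_bot.mp h
    exact Subtype.ext (Subtype.ext ((key x).trans (key y).symm))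
  rw [hfix] at hmod
  have hd : Nat.card ↥W ∣ 16 := h16 ▸ W.card_subgroup_dvd_card
  have hle : Nat.card ↥W ≤ 16 := Nat.le_of_dvd (by norm_num) hd
  have hpos : 0 < Nat.card ↥W := Nat.card_pos
  have hcases : Nat.card ↥W = 1 ∨ Nat.card ↥W = 16 := by
    unfold Nat.ModEq at hmod
    interval_cases hn : Nat.card ↥W <;> omega
  rcases hcases with h | h
  · exact Or.inl (card_eq_one.mp h)
  · exact Or.inr (eq_top_of_card_eq _ (h.trans h16.symm))

/-- Among three non-identity elements two lie in one orbit. -/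
theorem two_of_three (a b c : V) (ha : a ≠ 1) (hb : b ≠ 1) (hc : c ≠ 1) :
    (∃ g, ρ g a = b) ∨ (∃ g, ρ g a = c) ∨ (∃ g, ρ g b = c) := by
  classical
  haveI : Fintype V := Fintype.ofFinite V
  letI : MulAction A5 V := MulAction.compHom V ρ
  by_contra hcon
  push Not at hcon
  obtain ⟨hab, hac, hbc⟩ := hcon
  -- every orbit of a non-identity element has size divisible by five
  have h5dvd : ∀ x : V, x ≠ 1 → 5 ∣ Nat.card (MulAction.orbit A5 x) := by
    intro x hx
    haveI : Fact (Nat.Prime 5) := ⟨by norm_num⟩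
    have h1 : Nat.card (MulAction.orbit A5 x) * Nat.card ↥(MulAction.stabilizer A5 x) = 60 := by
      rw [← card_A5, ← Nat.card_prod]
      exact Nat.card_congr (MulAction.orbitProdStabilizerEquivGroup A5 x)
    have h2 : ¬ 5 ∣ Nat.card ↥(MulAction.stabilizer A5 x) := by
      intro h
      obtain ⟨g, hg⟩ := exists_prime_orderOf_dvd_card' 5 h
      have hg' : orderOf (g : A5) = 5 := by rw [orderOf_coe]; exact hg
      have hmem : x ∈ fix ρ (g : A5) := g.2
      rw [fix_five ρ hsq h16 hρ (orderOf_dvd_iff_pow_eq_one.mp hg'.dvd) (fun e => by simp [e] at hg')] at hmem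
      exact hx (mem_bot.mp hmem)
    rcases (Nat.Prime.dvd_mul (by norm_num : Nat.Prime 5)).mp (h1 ▸ (by norm_num : 5 ∣ 60)) with h | h
    · exact h
    · exact absurd h h2
  have hone : ∀ x : V, x ≠ 1 → (1 : V) ∉ MulAction.orbit A5 x := by
    rintro x hx ⟨g, hg⟩
    exact hx ((ρ g).injective (hg.trans (map_one _).symm))
  -- the three orbits
  set O : V → Finset V := fun x => (MulAction.orbit A5 x).toFinset
  have hOc : ∀ x : V, (O x).card = Nat.card (MulAction.orbit A5 x) := fun x => by
    rw [Nat.card_eq_fintype_card, Set.toFinset_card]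
  have hd : ∀ x y : V, (∀ g, ρ g x ≠ y) → Disjoint (O x) (O y) := by
    intro x y hxy
    rw [Finset.disjoint_left]
    intro z hz hz'
    obtain ⟨g, hg⟩ := Set.mem_toFinset.mp hz
    obtain ⟨h, hh⟩ := Set.mem_toFinset.mp hz'
    refine hxy (h⁻¹ * g) ?_
    show (h⁻¹ * g) • x = y
    change g • x = z at hg
    change h • y = z at hh
    rw [mul_smul, hg, ← hh, inv_smul_smul]
  have hsum : (O a).card + (O b).card + (O c).card ≤ 15 := by
    rw [← Finset.card_union_of_disjoint (hd a b hab),
      ← Finset.card_union_of_disjoint (Finset.disjoint_union_left.mpr ⟨hd a c hac, hd b c hbc⟩)]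
    refine (Finset.card_le_card (t := Finset.univ.erase 1) fun z hz => Finset.mem_erase.mpr ⟨?_, Finset.mem_univ _⟩).trans ?_
    · rintro rfl
      simp only [Finset.mem_union, O, Set.mem_toFinset] at hz
      rcases hz with (hz | hz) | hz
      exacts [hone a ha hz, hone b hb hz, hone c hc hz]
    · rw [Finset.card_erase_of_mem (Finset.mem_univ _), Finset.card_univ, ← Nat.card_eq_fintype_card, h16]
  have hpos : ∀ x : V, 5 ≤ (O x).card ∨ x = 1 := fun x => by
    by_cases hx : x = 1
    · exact Or.inr hx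
    · refine Or.inl ?_
      rw [hOc]
      haveI : Nonempty (MulAction.orbit A5 x) := ⟨⟨x, MulAction.mem_orbit_self x⟩⟩
      exact Nat.le_of_dvd Nat.card_pos (h5dvd x hx)
  have hall : (O a).card = 5 ∧ (O b).card = 5 ∧ (O c).card = 5 := by
    have := (hpos a).resolve_right ha
    have := (hpos b).resolve_right hb
    have := (hpos c).resolve_right hc
    omega
  -- the four-group fixes a point in each orbit
  obtain ⟨h11, h22, h12, hn1, hn2, hn3⟩ := i_facts
  set T : Finset A5 := {i1, i2, i1 * i2}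
  have hT : ∀ u ∈ T, u * u = 1 ∧ u ≠ 1 := by
    intro u hu
    simp only [T, Finset.mem_insert, Finset.mem_singleton] at hu
    rcases hu with rfl | rfl | rfl
    · exact ⟨h11, hn1⟩
    · exact ⟨h22, hn2⟩
    · refine ⟨?_, hn3⟩
      calc i1 * i2 * (i1 * i2) = i1 * (i2 * i1) * i2 := by simp only [mul_assoc]
        _ = (i1 * i1) * (i2 * i2) := by rw [← h12]; simp only [mul_assoc]
        _ = 1 := by rw [h11, h22, one_mul]
  have hW : ∀ x y : V, x ≠ 1 → (∀ u ∈ T, ρ u x = x) → ∀ u ∈ T, y ∈ fix ρ u → ∀ z : V, z ≠ 1 → z ≠ x →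
      (∀ u ∈ T, ρ u z = z) → y = 1 ∨ y = x ∨ y = z ∨ y = x * z := by
    intro x y hx hxf u hu hy z hz hzx hzf
    have h4 := (fix_involution ρ hsq h16 hρ (hT u hu).1 (hT u hu).2).1
    set L : Finset V := {1, x, z, x * z}
    have hxz1 : x * z ≠ 1 := fun e => hzx (by
      calc z = x * (x * z) := by rw [← mul_assoc, hsq, one_mul]
        _ = x := by rw [e, mul_one])
    have hLc : L.card = 4 := by
      simp only [L]
      rw [Finset.card_insert_of_notMem, Finset.card_insert_of_notMem, Finset.card_insert_of_notMem, Finset.card_singleton]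
      · simp only [Finset.mem_singleton]; intro e; exact hx (by simpa using e.symm)
      · simp only [Finset.mem_insert, Finset.mem_singleton]
        rintro (e | e)
        · exact hzx e.symm
        · exact hz (by simpa using e)
      · simp only [Finset.mem_insert, Finset.mem_singleton]
        rintro (e | e | e)
        exacts [hx e.symm, hz e.symm, hxz1 e.symm]
    have hLsub : L ⊆ (fix ρ u : Set V).toFinset := by
      intro w hw
      rw [Set.mem_toFinset]
      simp only [L, Finset.mem_insert, Finset.mem_singleton] at hw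
      rcases hw with rfl | rfl | rfl | rfl
      · exact one_mem _
      · exact hxf u hu
      · exact hzf u hu
      · exact mul_mem (hxf u hu : x ∈ fix ρ u) (hzf u hu : z ∈ fix ρ u)
    have heq := Finset.eq_of_subset_of_card_le hLsub (by
      rw [hLc, Set.toFinset_card, ← Nat.card_eq_fintype_card]; exact le_of_eq h4)
    have : y ∈ L := by rw [heq, Set.mem_toFinset]; exact hy
    simpa [L] using this
  have hfixed : ∀ x : V, (O x).card = 5 → ∃ y ∈ O x, ∀ u ∈ T, ρ u y = y := by
    intro x hx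
    haveI : Fact (Nat.Prime 2) := ⟨Nat.prime_two⟩
    set H : Subgroup A5 := closure {i1, i2}
    have hHcomm : IsMulCommutative ↥H := by
      refine ⟨⟨fun p q => Subtype.ext ?_⟩⟩
      refine Commute.eq ?_
      refine Subgroup.closure_induction₂ (p := fun p q _ _ => Commute p q) ?_ (fun _ _ => Commute.one_left _)
        (fun _ _ => Commute.one_right _) (fun _ _ _ _ _ _ h1 h2 => h1.mul_left h2)
        (fun _ _ _ _ _ _ h1 h2 => h1.mul_right h2) (fun _ _ _ _ h => h.inv_left) (fun _ _ _ _ h => h.inv_right) p.2 q.2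
      rintro p q (rfl | rfl) (rfl | rfl)
      exacts [Commute.refl _, h12, h12.symm, Commute.refl _]
    have hP : IsPGroup 2 ↥H := by
      intro p
      refine ⟨1, Subtype.ext ?_⟩
      simp only [pow_one, SubmonoidClass.coe_pow, OneMemClass.coe_one, pow_two]
      refine Subgroup.closure_induction (p := fun w _ => w * w = 1) ?_ (one_mul _) ?_ ?_ p.2
      · rintro w (rfl | rfl) <;> assumption
      · intro w w' hw hw' e e'
        have hc : w * w' = w' * w := congrArg Subtype.val
          (hHcomm.is_comm.comm (⟨w, hw⟩ : ↥H) ⟨w', hw'⟩)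
        calc w * w' * (w * w') = w * (w' * w) * w' := by simp only [mul_assoc]
          _ = (w * w) * (w' * w') := by rw [← hc]; simp only [mul_assoc]
          _ = 1 := by rw [e, e', one_mul]
      · intro w _ e
        rw [← mul_inv_rev, e, inv_one]
    have hnd : ¬ 2 ∣ Nat.card (MulAction.orbit A5 x) := by rw [← hOc, hx]; norm_num
    obtain ⟨⟨y, hy⟩, hyf⟩ := hP.nonempty_fixed_point_of_prime_not_dvd_card (MulAction.orbit A5 x) hnd
    refine ⟨y, Set.mem_toFinset.mpr hy, fun u hu => ?_⟩
    have huH : u ∈ H := by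
      simp only [T, Finset.mem_insert, Finset.mem_singleton] at hu
      rcases hu with rfl | rfl | rfl
      · exact subset_closure (Or.inl rfl)
      · exact subset_closure (Or.inr rfl)
      · exact mul_mem (subset_closure (Or.inl rfl)) (subset_closure (Or.inr rfl))
    exact congrArg Subtype.val (hyf ⟨u, huH⟩)
  obtain ⟨x, hxO, hxf⟩ := hfixed a hall.1
  obtain ⟨y, hyO, hyf⟩ := hfixed b hall.2.1
  obtain ⟨z, hzO, hzf⟩ := hfixed c hall.2.2
  have hne1 : ∀ {w p : V}, w ≠ 1 → p ∈ O w → p ≠ 1 := fun hw hp e => hone _ hw (e ▸ Set.mem_toFinset.mp hp)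
  have hx1 := hne1 ha hxO
  have hy1 := hne1 hb hyO
  have hz1 := hne1 hc hzO
  have hxy : y ≠ x := fun e => Finset.disjoint_left.mp (hd a b hab) hxO (e ▸ hyO)
  have hxz : z ≠ x := fun e => Finset.disjoint_left.mp (hd a c hac) hxO (e ▸ hzO)
  have hyz : z ≠ y := fun e => Finset.disjoint_left.mp (hd b c hbc) hyO (e ▸ hzO)
  have hi1T : i1 ∈ T := by simp [T]
  have hi2T : i2 ∈ T := by simp [T]
  have hi3T : i1 * i2 ∈ T := by simp [T]
  have hzxy : z = x * y := by
    rcases hW x z hx1 hxf i1 hi1T (hzf i1 hi1T) y hy1 hxy hyf with h | h | h | h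
    exacts [absurd h hz1, absurd h hxz, absurd h hyz, h]
  -- the four other points of the first orbit
  obtain ⟨w, hw, hwx⟩ := Finset.exists_mem_ne (by omega : 1 < (O a).card) x
  have hwmem : ∀ g : A5, ρ g w ∈ O a := fun g => by
    rw [Set.mem_toFinset]
    obtain ⟨h, hh⟩ := Set.mem_toFinset.mp hw
    exact ⟨g * h, by rw [← hh]; exact mul_smul g h a⟩
  have hw1 := hne1 ha hw
  have hnofix : ∀ u ∈ T, ρ u w ≠ w := by
    intro u hu e
    rcases hW x w hx1 hxf u hu e y hy1 hxy hyf with h | h | h | h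
    · exact hw1 h
    · exact hwx h
    · exact Finset.disjoint_left.mp (hd a b hab) hw (h ▸ hyO)
    · exact Finset.disjoint_left.mp (hd a c hac) hw ((h.trans hzxy.symm) ▸ hzO)
  have happ : ∀ p q : A5, ρ p (ρ q w) = ρ (p * q) w := fun p q => by rw [map_mul, MulAut.mul_apply]
  set p1 := ρ i1 w
  set p2 := ρ i2 w
  set p3 := ρ (i1 * i2) w
  have hne12 : p1 ≠ p2 := fun e => hnofix _ hi3T (by
    have h := congrArg (ρ i1) e
    rw [happ, happ, h11, map_one] at h
    exact h.symm)
  have hne13 : p1 ≠ p3 := fun e => hnofix _ hi2T (by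
    have h := congrArg (ρ i1) e
    rw [happ, happ, h11, map_one, ← mul_assoc, h11, one_mul] at h
    exact h.symm)
  have hne23 : p2 ≠ p3 := fun e => hnofix _ hi1T (by
    have h := congrArg (ρ i2) e
    rw [happ, happ, h22, map_one, show i2 * (i1 * i2) = i1 by rw [h12, ← mul_assoc, h22, one_mul]] at h
    exact h.symm)
  have hwxu : ∀ g : A5, g ∈ T → ρ g w ≠ x := fun g hg e => by
    refine hwx ?_
    have h := congrArg (ρ g) e
    rw [happ, (hT g hg).1, map_one, hxf g hg] at h
    exact h
  set W : Finset V := {x, w, p1, p2, p3}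
  have hWc : W.card = 5 := by
    simp only [W]
    rw [Finset.card_insert_of_notMem, Finset.card_insert_of_notMem, Finset.card_insert_of_notMem,
      Finset.card_insert_of_notMem, Finset.card_singleton]
    · simpa using hne23
    · simp [hne12, hne13]
    · simp only [Finset.mem_insert, Finset.mem_singleton, not_or]
      exact ⟨(hnofix i1 hi1T).symm, (hnofix i2 hi2T).symm, (hnofix _ hi3T).symm⟩
    · simp only [Finset.mem_insert, Finset.mem_singleton, not_or]
      exact ⟨hwx.symm, (hwxu i1 hi1T).symm, (hwxu i2 hi2T).symm, (hwxu _ hi3T).symm⟩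
  have hWO : W = O a := Finset.eq_of_subset_of_card_le (by
    intro v hv
    simp only [W, Finset.mem_insert, Finset.mem_singleton] at hv
    rcases hv with rfl | rfl | rfl | rfl | rfl
    exacts [hxO, hw, hwmem _, hwmem _, hwmem _]) (by rw [hWc, hall.1])
  -- the product of an orbit is trivial
  letI : CommGroup V := { ‹Group V› with mul_comm := comm ρ hsq h16 hρ }
  have hprod : ∏ v ∈ O a, v = 1 := by
    set P := ∏ v ∈ O a, v
    obtain ⟨g, h5, hg1⟩ := exists_five i1 h11 hn1
    set k := i1 * (g * i1 * g⁻¹)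
    have hk : P ∈ fix ρ k := by
      show ρ k P = P
      rw [map_prod]
      refine Finset.prod_bij (fun v _ => ρ k v) ?_ ?_ ?_ (fun _ _ => rfl)
      · intro v hv
        rw [Set.mem_toFinset] at hv ⊢
        obtain ⟨h, rfl⟩ := hv
        exact ⟨k * h, mul_smul k h a⟩
      · intro v _ v' _ e
        exact (ρ k).injective e
      · intro v hv
        rw [Set.mem_toFinset] at hv
        obtain ⟨h, rfl⟩ := hv
        refine ⟨(k⁻¹ * h) • a, Set.mem_toFinset.mpr ⟨k⁻¹ * h, rfl⟩, ?_⟩
        show k • ((k⁻¹ * h) • a) = h • a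
        rw [← mul_smul, mul_inv_cancel_left]
    rw [fix_five ρ hsq h16 hρ h5 hg1] at hk
    exact mem_bot.mp hk
  -- the three products
  have hmem : ∀ u ∈ T, w * ρ u w ∈ fix ρ u := fun u hu => by
    show ρ u (w * ρ u w) = w * ρ u w
    rw [map_mul, happ, (hT u hu).1, map_one, MulAut.one_apply, mul_comm]
  have hcase : ∀ u ∈ T, w * ρ u w = y ∨ w * ρ u w = z ∨ w * ρ u w = x := fun u hu => by
    rcases hW x _ hx1 hxf u hu (hmem u hu) y hy1 hxy hyf with h | h | h | h
    · exfalso
      refine hnofix u hu ?_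
      calc ρ u w = w * (w * ρ u w) := by rw [← mul_assoc, hsq, one_mul]
        _ = w := by rw [h, mul_one]
    · exact Or.inr (Or.inr h)
    · exact Or.inl h
    · exact Or.inr (Or.inl (h.trans hzxy.symm))
  have hexpand : x * (w * (p1 * (p2 * p3))) = 1 := by
    rw [← hprod, ← hWO]
    simp only [W]
    rw [Finset.prod_insert, Finset.prod_insert, Finset.prod_insert, Finset.prod_insert, Finset.prod_singleton]
    · simpa using hne23
    · simp [hne12, hne13]
    · simp only [Finset.mem_insert, Finset.mem_singleton, not_or]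
      exact ⟨(hnofix i1 hi1T).symm, (hnofix i2 hi2T).symm, (hnofix _ hi3T).symm⟩
    · simp only [Finset.mem_insert, Finset.mem_singleton, not_or]
      exact ⟨hwx.symm, (hwxu i1 hi1T).symm, (hwxu i2 hi2T).symm, (hwxu _ hi3T).symm⟩
  have hcancel : ∀ {p q : V}, p * q = 1 → p = q := fun {p q} e => by
    calc p = p * (q * q) := by rw [hsq, mul_one]
      _ = q := by rw [← mul_assoc, e, one_mul]
  have hno1 : w * p1 ≠ x := fun e => hne23 (hcancel (by
    rwa [← mul_assoc w, e, ← mul_assoc, hsq, one_mul] at hexpand))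
  have hno2 : w * p2 ≠ x := fun e => hne13 (hcancel (by
    rwa [mul_left_comm p1, ← mul_assoc w, e, ← mul_assoc, hsq, one_mul] at hexpand))
  have hno3 : w * p3 ≠ x := fun e => hne12 (hcancel (by
    rwa [show p1 * (p2 * p3) = p3 * (p1 * p2) by rw [← mul_assoc, mul_comm (p1 * p2)], ← mul_assoc w, e,
      ← mul_assoc, hsq, one_mul] at hexpand))
  have hinj : ∀ {p q : V}, w * p = w * q → p = q := fun e => mul_left_cancel e
  rcases hcase i1 hi1T with h1 | h1 | h1 <;> rcases hcase i2 hi2T with h2 | h2 | h2 <;>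
    rcases hcase _ hi3T with h3 | h3 | h3
  all_goals first
    | exact hno1 h1 | exact hno2 h2 | exact hno3 h3
    | exact hne12 (hinj (h1.trans h2.symm)) | exact hne13 (hinj (h1.trans h3.symm))
    | exact hne23 (hinj (h2.trans h3.symm))

end Cfsg.Agent.Transfer.AEightA5
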