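import Cfsg.Agent.Lib.Fus.Goldschmidt.Basic
import Cfsg.Agent.Lib.Transfer.AEightA5.Module
import Cfsg.Agent.Lib.Grp.ComponentSplit
import Cfsg.Agent.Lib.Grp.HomogeneousDPi

/-!
# A strongly closed group of order sixteen with automizer the alternating group of degree five is normal

Without odd core, such a subgroup either lies in the largest normal 2-subgroup, or a component would contain it and would
need an automizer of odd order which is transitive and normal in the alternating group of degree five.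
-/

set_option autoImplicit false
set_option linter.style.haveILetI false
set_option linter.unusedSectionVars false

namespace Cfsg.Agent.Transfer.AEightA5

open Subgroup Cfsg.Agent.Grp
open scoped commutatorElement

universe u

variable {X : Type u} [Group X] [Finite X]

theorem core_step (hphi : ∀ (L : Type u) [Group L] [Finite L], IsSimpleGroup L → ¬ IsMulCommutative L →
      Fus.Gold.Conclusion L)
    (hO : Cfsg.pPrimeCore 2 X = ⊥) (T : Sylow 2 X) (B : Subgroup X) (hB : Cfsg.IsElementaryAbelian 2 B)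
    (h16 : Nat.card ↥B = 16) (hsc : Cfsg.IsStronglyClosed B (T : Subgroup X))
    (hself : ∀ t ∈ (T : Subgroup X), (∀ b ∈ B, t * b = b * t) → t ∈ B)
    (ρ : A5 →* MulAut ↥B) (hρ : ρ ≠ 1)
    (hlift : ∀ g : A5, ∃ n ∈ normalizer (B : Set X), ∀ b : ↥B, (ρ g b : X) = n * b * n⁻¹)
    (hcov : ∀ n ∈ normalizer (B : Set X), ∃ g : A5, ∀ b : ↥B, (ρ g b : X) = n * b * n⁻¹) : B.Normal := by
  classical
  haveI : Fact (Nat.Prime 2) := ⟨Nat.prime_two⟩
  have hsq : ∀ x : ↥B, x * x = 1 := fun x => Subtype.ext (by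
    show (x : X) * x = 1
    rw [← pow_two]; exact hB.2 _ x.2)
  have hTN : (T : Subgroup X) ≤ normalizer (B : Set X) := Invol.sylow_le_normalizer_stronglyClosed hsc
  have hBT := hsc.1
  -- invariant subgroups of `B`
  have hirr : ∀ W : Subgroup X, W ≤ B → (∀ n ∈ normalizer (B : Set X), ∀ w ∈ W, n * w * n⁻¹ ∈ W) →
      W = ⊥ ∨ W = B := by
    intro W hW hinv
    rcases irred ρ hsq h16 hρ (W.subgroupOf B) (fun g x hx => by
      obtain ⟨n, hn, he⟩ := hlift g
      show ((ρ g x : ↥B) : X) ∈ W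
      rw [he]; exact hinv n hn _ hx) with h | h
    · exact Or.inl (by rwa [subgroupOf_eq_bot, disjoint_iff, inf_eq_left.mpr hW] at h)
    · exact Or.inr (le_antisymm hW (subgroupOf_eq_top.mp h))
  have hcommT : ∀ R : Subgroup X, R ≤ (T : Subgroup X) → (∀ r ∈ R, ∀ b ∈ B, r * b * r⁻¹ * b⁻¹ = 1) → R ≤ B :=
    fun R hR h r hr => hself r (hR hr) fun b hb => mul_inv_eq_iff_eq_mul.mp (mul_inv_eq_one.mp (h r hr b hb))
  -- the largest normal 2-subgroup
  haveI hOn : (Cfsg.pCore 2 X).Normal := pCore_isNormal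
  have hOT : Cfsg.pCore 2 X ≤ (T : Subgroup X) := pCore_le_sylow T
  rcases hirr (B ⊓ Cfsg.pCore 2 X) inf_le_left (fun n hn w hw =>
    ⟨(mem_normalizer_iff.mp hn w).mp hw.1, hOn.conj_mem w hw.2 n⟩) with hO2 | hO2
  swap
  · exact ⟨fun b hb g => hsc.2 b hb g (hOT (hOn.conj_mem b (inf_eq_left.mp hO2 hb) g))⟩
  exfalso
  have hO2bot : Cfsg.pCore 2 X = ⊥ := by
    rw [eq_bot_iff, ← hO2]
    refine le_inf (hcommT _ hOT fun r hr b hb => ?_) le_rfl
    have h1 : r * b * r⁻¹ * b⁻¹ ∈ B ⊓ Cfsg.pCore 2 X :=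
      ⟨B.mul_mem ((mem_normalizer_iff.mp (hTN (hOT hr)) b).mp hb) (B.inv_mem hb), by
        rw [show r * b * r⁻¹ * b⁻¹ = r * (b * r⁻¹ * b⁻¹) by group]
        exact mul_mem hr (hOn.conj_mem _ (inv_mem hr) b)⟩
    rwa [hO2, mem_bot] at h1
  have hB1 : B ≠ ⊥ := fun e => by rw [e, card_bot] at h16; norm_num at h16
  set E := Cfsg.layer X with hEdef
  haveI hEn : E.Normal := ⟨fun x hx g => layer_map_le (MulAut.conj g) ⟨x, hx, rfl⟩⟩
  have hCE : centralizer (E : Set X) = ⊥ := by
    rw [eq_bot_iff]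
    have hfit : Cfsg.fittingSubgroup X = ⊥ := by rw [fitting_eq_pCore (p := 2) hO, hO2bot]
    have hg : Cfsg.generalizedFittingSubgroup X = E := by rw [Cfsg.generalizedFittingSubgroup, hfit, sup_bot_eq]
    have h := centralizer_gfitting_le_fitting (G := X)
    rwa [hfit, hg] at h
  -- components
  have hTL : ∀ L : Subgroup X, L.IsSubnormal → Cfsg.IsComponent L → (T : Subgroup X) ⊓ L ≠ ⊥ := by
    intro L hLs hL e
    have h1 : 2 ∣ Nat.card ↥L := by
      have := component_dvd_index (p := 2) hO hL ⊥ bot_le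
      rwa [index_bot] at this
    refine not_dvd_relIndex_sylow T hLs ?_
    rw [← inf_relIndex_right, e, relIndex_bot_left]
    exact h1
  have hcompE : ∀ L : Subgroup X, Cfsg.IsComponent L → L ≤ E := fun L hL => IsComponent.le_layer hL
  obtain ⟨L₀, hL₀⟩ : ∃ L : Subgroup X, Cfsg.IsComponent L := by
    by_contra hnone
    push Not at hnone
    have hEb : E = ⊥ := le_bot_iff.mp (sSup_le fun L hL => absurd hL (hnone L))
    rw [hEb] at hCE
    refine hB1 (le_bot_iff.mp fun b hb => ?_)
    rw [← hCE]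
    exact mem_centralizer_iff.mpr fun x hx => by rw [mem_bot.mp hx]; simp
  -- `B` lies in the layer
  have hBE : B ≤ E := by
    rcases hirr (B ⊓ E) inf_le_left (fun n hn w hw =>
      ⟨(mem_normalizer_iff.mp hn w).mp hw.1, hEn.conj_mem w hw.2 n⟩) with h | h
    · exfalso
      refine hTL L₀ hL₀.1 hL₀ (le_bot_iff.mp ?_)
      refine le_trans (le_inf (hcommT _ inf_le_left fun r hr b hb => ?_) (inf_le_right.trans (hcompE L₀ hL₀))) h.le
      have h1 : r * b * r⁻¹ * b⁻¹ ∈ B ⊓ E :=
        ⟨B.mul_mem ((mem_normalizer_iff.mp (hTN hr.1) b).mp hb) (B.inv_mem hb), by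
          rw [show r * b * r⁻¹ * b⁻¹ = r * (b * r⁻¹ * b⁻¹) by group]
          exact mul_mem (hcompE L₀ hL₀ hr.2) (hEn.conj_mem _ (inv_mem (hcompE L₀ hL₀ hr.2)) b)⟩
      rwa [h, mem_bot] at h1
    · exact inf_eq_left.mp h
  have hBn : ∀ L : Subgroup X, Cfsg.IsComponent L → B ≤ normalizer (L : Set X) := fun L hL =>
    hBE.trans (ComponentSplit.layer_le_normalizer hL)
  -- each component meets `B`
  have hBL : ∀ L : Subgroup X, Cfsg.IsComponent L → B ⊓ L ≠ ⊥ := by
    intro L hL e
    refine hTL L hL.1 hL (le_bot_iff.mp (le_trans (le_inf (hcommT _ inf_le_left fun r hr b hb => ?_) inf_le_right) e.le))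
    have h1 : r * b * r⁻¹ * b⁻¹ ∈ B ⊓ L :=
      ⟨B.mul_mem ((mem_normalizer_iff.mp (hTN hr.1) b).mp hb) (B.inv_mem hb), by
        rw [show r * b * r⁻¹ * b⁻¹ = r * (b * r⁻¹ * b⁻¹) by group]
        exact L.mul_mem hr.2 ((mem_normalizer_iff.mp (hBn L hL hb) _).mp (L.inv_mem hr.2))⟩
    rwa [e, mem_bot] at h1
  have hdisj : ∀ L M : Subgroup X, Cfsg.IsComponent L → Cfsg.IsComponent M → L ≠ M → L ⊓ M = ⊥ := by
    intro L M hL hM hne
    rw [eq_bot_iff, ← hCE, ← le_centralizer_iff]
    refine sSup_le fun N hN => le_centralizer_iff.mpr ?_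
    by_cases hNL : N = L
    · subst hNL
      exact inf_le_right.trans (IsComponent.commute hM hL hne.symm)
    · exact inf_le_left.trans (IsComponent.commute hL hN (Ne.symm hNL))
  -- conjugates
  have hconj : ∀ (n : X) (L : Subgroup X), n ∈ normalizer (B : Set X) → Cfsg.IsComponent L →
      (B ⊓ L).map (MulAut.conj n).toMonoidHom = B ⊓ L.map (MulAut.conj n).toMonoidHom := by
    intro n L hn _
    ext x
    constructor
    · rintro ⟨y, ⟨hyB, hyL⟩, rfl⟩
      exact ⟨(mem_normalizer_iff.mp hn y).mp hyB, ⟨y, hyL, rfl⟩⟩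
    · rintro ⟨hxB, y, hy, rfl⟩
      exact ⟨y, ⟨(mem_normalizer_iff.mp hn y).mpr hxB, hy⟩, rfl⟩
  set L := L₀
  have hL := hL₀
  have hLc : ∀ n : X, Cfsg.IsComponent (L.map (MulAut.conj n).toMonoidHom) := fun n =>
    IsComponent.map_iso (MulAut.conj n) hL
  -- the stabiliser of `B ∩ L`
  have hinj : ∀ M N : Subgroup X, Cfsg.IsComponent M → Cfsg.IsComponent N → B ⊓ M = B ⊓ N → M = N := by
    intro M N hM hN e
    by_contra hne
    refine hBL M hM (le_bot_iff.mp ?_)
    rw [← hdisj M N hM hN hne]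
    exact le_inf inf_le_right (e ▸ inf_le_right)
  let Stab : Subgroup A5 :=
    { carrier := {g | ∀ b : ↥B, (b : X) ∈ L ↔ ((ρ g b : ↥B) : X) ∈ L}
      one_mem' := fun b => by simp
      mul_mem' := fun {g h} hg hh b => by rw [map_mul, MulAut.mul_apply]; exact (hh b).trans (hg _)
      inv_mem' := fun {g} hg b => by
        have h := hg ((ρ g)⁻¹ b)
        rw [map_inv]
        simpa using h.symm }
  have hStab : Stab = ⊤ := by
    refine closure_five Stab fun g hg5 => ?_
    obtain ⟨n, hn, he⟩ := hlift g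
    -- the images under the powers of `n`
    let M : ℕ → Subgroup X := fun i => L.map (MulAut.conj (n ^ i)).toMonoidHom
    have hMc : ∀ i, Cfsg.IsComponent (M i) := fun i => hLc _
    have hni : ∀ i, n ^ i ∈ normalizer (B : Set X) := fun i => pow_mem hn i
    have hpow : ∀ (i : ℕ) (b : ↥B), ((ρ (g ^ i) b : ↥B) : X) = n ^ i * b * (n ^ i)⁻¹ := by
      intro i
      induction i with
      | zero => intro b; simp
      | succ i ih =>
        intro b
        rw [pow_succ', map_mul, MulAut.mul_apply, he, ih, pow_succ']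
        group
    have hM5 : ∀ i, B ⊓ M (i + 5) = B ⊓ M i := by
      intro i
      rw [← hconj _ L (hni _) hL, ← hconj _ L (hni _) hL]
      ext x
      constructor <;> rintro ⟨y, hy, rfl⟩ <;> refine ⟨y, hy, ?_⟩
      · show n ^ i * y * (n ^ i)⁻¹ = n ^ (i + 5) * y * (n ^ (i + 5))⁻¹
        rw [← hpow i ⟨y, hy.1⟩, ← hpow (i + 5) ⟨y, hy.1⟩, pow_add, hg5, mul_one]
      · show n ^ (i + 5) * y * (n ^ (i + 5))⁻¹ = n ^ i * y * (n ^ i)⁻¹
        rw [← hpow i ⟨y, hy.1⟩, ← hpow (i + 5) ⟨y, hy.1⟩, pow_add, hg5, mul_one]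
    have hM5' : ∀ i, M (i + 5) = M i := fun i => hinj _ _ (hMc _) (hMc _) (hM5 i)
    have hfix : M 1 = M 0 := by
      by_contra hne
      -- five different components
      have hshift : ∀ i j k : ℕ, M i = M j → M (i + k) = M (j + k) := by
        intro i j k h
        have e : ∀ l, M (l + k) = (M l).map (MulAut.conj (n ^ k)).toMonoidHom := fun l => by
          show L.map _ = (L.map _).map _
          rw [map_map]
          congr 1
          refine MonoidHom.ext fun x => ?_
          show n ^ (l + k) * x * (n ^ (l + k))⁻¹ = n ^ k * (n ^ l * x * (n ^ l)⁻¹) * (n ^ k)⁻¹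
          rw [add_comm l k, pow_add]
          group
        rw [e i, e j, h]
      have hper : ∀ d : ℕ, M d = M 0 → ∀ q, M (q * d) = M 0 := by
        intro d hd q
        induction q with
        | zero => rw [Nat.zero_mul]
        | succ q ih => rw [Nat.succ_mul, hshift _ 0 d ih, zero_add, hd]
      have hmod : ∀ q i, M (i + 5 * q) = M i := by
        intro q
        induction q with
        | zero => intro i; simp
        | succ q ih => intro i; rw [show i + 5 * (q + 1) = (i + 5 * q) + 5 by omega, hM5', ih]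
      have hdist : ∀ i j : ℕ, i < j → j < 5 → M i ≠ M j := by
        intro i j hij hj e
        have hd : M (j - i) = M 0 := by
          have h := hshift i j (5 - i) e
          rw [show i + (5 - i) = 0 + 5 by omega, hM5', show j + (5 - i) = (j - i) + 5 by omega, hM5'] at h
          exact h.symm
        have hd' : j - i = 1 ∨ j - i = 2 ∨ j - i = 3 ∨ j - i = 4 := by omega
        refine hne ?_
        rcases hd' with h | h | h | h <;> rw [h] at hd
        · exact hd
        · rw [← hmod 1 1]; exact hper 2 hd 3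
        · rw [← hmod 1 1]; exact hper 3 hd 2
        · rw [← hmod 3 1]; exact hper 4 hd 4
      let D : ℕ → Subgroup X := fun j => ⨆ i ∈ Finset.range j, B ⊓ M i
      have hDB : ∀ j, D j ≤ B := fun j => iSup_le fun i => iSup_le fun _ => inf_le_left
      have hgrow : ∀ j, j ≤ 5 → 2 ^ j ≤ Nat.card ↥(D j) := by
        intro j
        induction j with
        | zero => intro _; rw [pow_zero]; exact Nat.card_pos
        | succ j ih =>
          intro hj
          have hd : Disjoint (D j) (B ⊓ M j) := by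
            rw [disjoint_iff, eq_bot_iff]
            rintro x ⟨hx1, hx2⟩
            have hc : D j ≤ centralizer (M j : Set X) := iSup_le fun i => iSup_le fun hi =>
              inf_le_right.trans (IsComponent.commute (hMc i) (hMc j) (hdist i j (Finset.mem_range.mp hi) (by omega)))
            rw [← hCE]
            refine mem_centralizer_iff.mpr fun y hy => ?_
            have hle : E ≤ centralizer ({x} : Set X) := sSup_le fun N hN => by
              by_cases hNM : N = M j
              · subst hNM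
                exact fun z hz => mem_centralizer_singleton_iff.mpr (mem_centralizer_iff.mp (hc hx1) z hz)
              · exact fun z hz => mem_centralizer_singleton_iff.mpr
                  ((mem_centralizer_iff.mp (IsComponent.commute (hMc j) hN (Ne.symm hNM) hx2.2) z hz))
            exact mem_centralizer_singleton_iff.mp (hle hy)
          have h2 : 2 ≤ Nat.card ↥(B ⊓ M j) := by
            rcases Nat.lt_or_ge (Nat.card ↥(B ⊓ M j)) 2 with h | h
            · exact absurd (card_eq_one.mp (Nat.le_antisymm (Nat.le_of_lt_succ h) Nat.card_pos)) (hBL _ (hMc j))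
            · exact h
          have hsub : D j ⊔ (B ⊓ M j) ≤ D (j + 1) := sup_le
            (iSup_le fun i => iSup_le fun hi => le_iSup₂_of_le i (Finset.mem_range.mpr
              ((Finset.mem_range.mp hi).trans (Nat.lt_succ_self j))) le_rfl)
            (le_iSup₂_of_le j (Finset.self_mem_range_succ j) le_rfl)
          calc 2 ^ (j + 1) = 2 ^ j * 2 := pow_succ 2 j
            _ ≤ Nat.card ↥(D j) * Nat.card ↥(B ⊓ M j) := Nat.mul_le_mul (ih (by omega)) h2
            _ ≤ Nat.card ↥(D j ⊔ (B ⊓ M j)) := by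
              rw [← Nat.card_prod]
              refine Nat.card_le_card_of_injective (fun p => (⟨(p.1 : X) * p.2, mul_mem_sup p.1.2 p.2.2⟩ :
                ↥(D j ⊔ (B ⊓ M j)))) ?_
              intro p q h
              exact mul_injective_of_disjoint hd (congrArg Subtype.val h)
            _ ≤ _ := Nat.le_of_dvd Nat.card_pos (card_dvd_of_le hsub)
      have h5 := hgrow 5 le_rfl
      have h6 := Nat.le_of_dvd Nat.card_pos (card_dvd_of_le (hDB 5))
      rw [h16] at h6
      omega
    have hM0 : M 0 = L := by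
      show L.map (MulAut.conj (n ^ 0)).toMonoidHom = L
      rw [pow_zero, map_one]
      exact map_id L
    have hM1 : M 1 = L.map (MulAut.conj n).toMonoidHom := by
      show L.map (MulAut.conj (n ^ 1)).toMonoidHom = _
      rw [pow_one]
    intro b
    have hbB : n * (b : X) * n⁻¹ ∈ B := (mem_normalizer_iff.mp hn _).mp b.2
    rw [he]
    constructor
    · intro hb
      have : n * (b : X) * n⁻¹ ∈ L.map (MulAut.conj n).toMonoidHom := ⟨b, hb, rfl⟩
      rwa [← hM1, hfix, hM0] at this
    · intro hb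
      have : n * (b : X) * n⁻¹ ∈ L.map (MulAut.conj n).toMonoidHom := by rwa [← hM1, hfix, hM0]
      obtain ⟨y, hy, hye⟩ := this
      rwa [← (MulAut.conj n).injective hye]
  have hBLinv : ∀ n ∈ normalizer (B : Set X), ∀ w ∈ B ⊓ L, n * w * n⁻¹ ∈ B ⊓ L := by
    intro n hn w hw
    obtain ⟨g, hg⟩ := hcov n hn
    refine ⟨(mem_normalizer_iff.mp hn w).mp hw.1, ?_⟩
    have h := ((hStab.ge (mem_top g) : g ∈ Stab) ⟨w, hw.1⟩).mp hw.2
    rwa [hg] at h
  have hBleL : B ≤ L := inf_eq_left.mp ((hirr _ inf_le_left hBLinv).resolve_left (hBL L hL))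
  -- the component is simple
  have hZ : center ↥L = ⊥ := by
    rw [eq_bot_iff]
    intro z hz
    have h : (z : X) ∈ centralizer (E : Set X) := by
      refine (le_centralizer_iff.mp (sSup_le fun N hN => ?_) : zpowers (z : X) ≤ centralizer (E : Set X)) (mem_zpowers _)
      refine le_centralizer_iff.mp (zpowers_le.mpr ?_)
      by_cases hNL : N = L
      · subst hNL
        exact mem_centralizer_iff.mpr fun y hy => congrArg Subtype.val (mem_center_iff.mp hz ⟨y, hy⟩)
      · exact IsComponent.commute hL hN (Ne.symm hNL) z.2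
    rw [hCE, mem_bot] at h
    exact mem_bot.mpr (Subtype.ext h)
  haveI hLsimple : IsSimpleGroup ↥L := by
    haveI := hL.2.2
    haveI := IsQuasisimple.nontrivial hL.2
    let e : ↥L ⧸ center ↥L ≃* ↥L := (QuotientGroup.quotientMulEquivOfEq hZ).trans QuotientGroup.quotientBot
    exact IsSimpleGroup.isSimpleGroup_of_surjective e.toMonoidHom e.surjective
  have hLnc : ¬ IsMulCommutative ↥L := fun hc => IsQuasisimple.center_ne_top hL.2
    (eq_top_iff.mpr fun x _ => mem_center_iff.mpr fun y => hc.is_comm.comm y x)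
  -- the Sylow subgroup of `L`
  have hPp : IsPGroup 2 ↥((T : Subgroup X).subgroupOf L) := T.isPGroup'.comap_subtype
  set P : Sylow 2 ↥L := hPp.toSylow (not_dvd_relIndex_sylow T hL.1)
  have hP : (P : Subgroup ↥L) = (T : Subgroup X).subgroupOf L := rfl
  have hscL : Cfsg.IsStronglyClosed (B.subgroupOf L) (P : Subgroup ↥L) :=
    ⟨fun x hx => hBT hx, fun x hx g hg => hsc.2 (x : X) hx (g : X) hg⟩
  have hne : B.subgroupOf L ≠ ⊥ := by
    rw [Ne, subgroupOf_eq_bot, disjoint_iff, inf_eq_left.mpr hBleL]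
    exact hB1
  have hel : Cfsg.IsElementaryAbelian 2 (B.subgroupOf L) := by
    refine ⟨⟨⟨fun x y => Subtype.ext (Subtype.ext ?_)⟩⟩, fun x hx => Subtype.ext ?_⟩
    · exact elemAb_comm hB _ x.2 _ y.2
    · exact hB.2 (x : X) hx
  obtain ⟨-, -, hcen, htrans⟩ := hphi ↥L hLsimple hLnc P (B.subgroupOf L) hne hel hscL
  have hTLB : (T : Subgroup X) ⊓ L ≤ centralizer (B : Set X) := fun t ht => mem_centralizer_iff.mpr fun b hb =>
    congrArg Subtype.val (mem_centralizer_iff.mp (hcen (show (⟨t, ht.2⟩ : ↥L) ∈ (P : Subgroup ↥L) from ht.1))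
      ⟨b, hBleL hb⟩ hb)
  have hLfix : ∀ n ∈ normalizer (B : Set X), L.map (MulAut.conj n).toMonoidHom = L := by
    intro n hn
    refine hinj _ _ (hLc n) hL ?_
    rw [← hconj n L hn hL, inf_eq_left.mpr hBleL]
    ext x
    constructor
    · rintro ⟨y, hy, rfl⟩; exact (mem_normalizer_iff.mp hn y).mp hy
    · intro hx; exact ⟨n⁻¹ * x * n, (mem_normalizer_iff''.mp hn x).mp hx, by simp [mul_assoc]⟩
  let Img : Subgroup A5 :=
    { carrier := {g | ∃ n ∈ L ⊓ normalizer (B : Set X), ∀ b : ↥B, (ρ g b : X) = n * b * n⁻¹}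
      one_mem' := ⟨1, (L ⊓ normalizer (B : Set X)).one_mem, fun b => by simp⟩
      mul_mem' := fun {g h} ⟨n, hn, hg⟩ ⟨m, hm, hh⟩ => ⟨n * m, (L ⊓ normalizer (B : Set X)).mul_mem hn hm, fun b => by
        rw [map_mul, MulAut.mul_apply, hg, hh]; group⟩
      inv_mem' := fun {g} ⟨n, hn, hg⟩ => ⟨n⁻¹, (L ⊓ normalizer (B : Set X)).inv_mem hn, fun b => by
        have h := hg ((ρ g)⁻¹ b)
        rw [MulAut.apply_inv_self] at h
        rw [map_inv, h]; group⟩ }
  haveI : IsSimpleGroup A5 := alternatingGroup.isSimpleGroup_five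
  haveI : Img.Normal := ⟨fun g ⟨n, hn, hg⟩ h => by
    obtain ⟨m, hm, hmh⟩ := hlift h
    refine ⟨m * n * m⁻¹, ⟨?_, (normalizer (B : Set X)).mul_mem ((normalizer (B : Set X)).mul_mem hm hn.2) ((normalizer (B : Set X)).inv_mem hm)⟩, fun b => ?_⟩
    · have : m * n * m⁻¹ ∈ L.map (MulAut.conj m).toMonoidHom := ⟨n, hn.1, rfl⟩
      rwa [hLfix m hm] at this
    · have h1 := hmh ((ρ h)⁻¹ b)
      rw [MulAut.apply_inv_self] at h1
      rw [map_mul, map_mul, MulAut.mul_apply, MulAut.mul_apply, map_inv, hmh, hg, h1]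
      group⟩
  have hImg : Img = ⊤ := by
    refine (inferInstance : Img.Normal).eq_bot_or_eq_top.resolve_left fun e => ?_
    obtain ⟨⟨x, hx⟩, hx1⟩ := B.ne_bot_iff_exists_ne_one.mp hB1
    have hx1' : x ≠ 1 := fun h => hx1 (Subtype.ext h)
    obtain ⟨y, hy, hy1, hyx⟩ : ∃ y ∈ B, y ≠ 1 ∧ y ≠ x := by
      by_contra hall
      push Not at hall
      have hle : Nat.card ↥B ≤ 2 := by
        have hs : (B : Set X) ⊆ {1, x} := fun y hy => by
          by_cases h1 : y = 1
          · exact Or.inl h1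
          · exact Or.inr (hall y hy h1)
        calc Nat.card ↥B = (B : Set X).ncard := Nat.card_coe_set_eq (B : Set X)
          _ ≤ ({1, x} : Set X).ncard := Set.ncard_le_ncard hs (Set.toFinite _)
          _ ≤ 2 := (Set.ncard_insert_le _ _).trans (by simp)
      omega
    obtain ⟨k, hk, hkxy⟩ := htrans ⟨x, hBleL hx⟩ hx ⟨y, hBleL hy⟩ hy
      (fun h => hx1' (congrArg Subtype.val h)) (fun h => hy1 (congrArg Subtype.val h))
    have hkN : (k : X) ∈ normalizer (B : Set X) := mem_normalizer_fintype fun b hb =>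
      (mem_normalizer_iff.mp hk ⟨b, hBleL hb⟩).mp hb
    obtain ⟨g, hg⟩ := hcov k hkN
    have hgI : g ∈ Img := ⟨k, ⟨k.2, hkN⟩, hg⟩
    rw [e, mem_bot] at hgI
    have h := hg ⟨x, hx⟩
    rw [hgI, map_one, MulAut.one_apply] at h
    exact hyx ((congrArg Subtype.val hkxy).symm.trans h.symm)
  obtain ⟨n, hn, hn1⟩ : i1 ∈ Img := hImg ▸ mem_top _
  -- pass to a 2-element
  set M := L ⊓ normalizer (B : Set X)
  have hord : 0 < orderOf n := orderOf_pos n
  obtain ⟨a, m, hm, hdec⟩ := Nat.exists_eq_two_pow_mul_odd hord.ne'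
  set w := n ^ m
  have hwp : IsPGroup 2 ↥(zpowers w) := by
    refine IsPGroup.of_card (n := a) ?_
    rw [Nat.card_zpowers, orderOf_pow' n (Nat.pos_of_ne_zero (fun h => by subst h; simp at hm)).ne', hdec,
      Nat.gcd_mul_left_left, Nat.mul_div_cancel _ (Odd.pos hm)]
  have hwM : w ∈ M := pow_mem hn m
  have hsyl : IsSylowIn 2 ((T : Subgroup X) ⊓ L) M := by
    refine ⟨le_inf inf_le_right (inf_le_left.trans hTN), T.isPGroup'.to_le inf_le_left, fun hd => ?_⟩
    refine not_dvd_relIndex_sylow T hL.1 (hd.trans ?_)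
    rw [← inf_relIndex_right (T : Subgroup X) L]
    exact Dvd.intro _ (relIndex_mul_relIndex _ M L (le_inf inf_le_right (inf_le_left.trans hTN)) inf_le_left)
  obtain ⟨d, hd, hdT⟩ := HomDPi.exists_conj_into (zpowers_le.mpr hwM) hwp hsyl
  have hfixw : ∀ b ∈ B, w * b * w⁻¹ = b := by
    intro b hb
    have h1 := mem_centralizer_iff.mp (hTLB (hdT w (mem_zpowers w))) (d * b * d⁻¹) ((mem_normalizer_iff.mp hd.2 b).mp hb)
    have h2 : b * w = w * b := by
      calc b * w = d⁻¹ * (d * b * d⁻¹ * (d * w * d⁻¹)) * d := by group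
        _ = d⁻¹ * (d * w * d⁻¹ * (d * b * d⁻¹)) * d := by rw [h1]
        _ = w * b := by group
    rw [← h2, mul_inv_cancel_right]
  have hpowi : ∀ (j : ℕ) (b : ↥B), ((ρ (i1 ^ j) b : ↥B) : X) = n ^ j * b * (n ^ j)⁻¹ := by
    intro j
    induction j with
    | zero => intro b; simp
    | succ j ih =>
      intro b
      rw [pow_succ', map_mul, MulAut.mul_apply, hn1, ih, pow_succ']
      group
  have hodd : i1 ^ m = i1 := by
    obtain ⟨j, hj⟩ := hm
    rw [hj, pow_succ, pow_mul, pow_two, i_facts.1, one_pow, one_mul]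
  refine i_facts.2.2.2.1 (injective ρ hsq h16 hρ ?_)
  rw [map_one]
  refine MulEquiv.ext fun b => Subtype.ext ?_
  have h := hpowi m b
  rw [hodd] at h
  rw [h, MulAut.one_apply]
  exact hfixw b b.2

end Cfsg.Agent.Transfer.AEightA5
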