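import Cfsg.Agent.Lib.Transfer.AEightA5.Core
import Cfsg.Agent.Lib.Block.KBalance

/-!
# Sylow 2-subgroups of `A₈`, three classes of involutions and `N(A)/A O(N) ≅ A₅`

`A` is strongly closed: otherwise every involution would be conjugate into `A`, whose non-identity
elements form at most two orbits.
-/

set_option autoImplicit false
set_option linter.style.haveILetI false
set_option linter.unusedSectionVars false

namespace Cfsg.Agent.Transfer.AEightA5

open Subgroup Equiv Cfsg.Agent.Grp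
open scoped commutatorElement

universe u

/-- A 2-element of `A₈` with centralizer of order at most 16. -/
theorem exists_small : ∃ y : ↥(alternatingGroup (Fin 8)), y ^ 4 = 1 ∧
    Nat.card ↥(centralizer ({y} : Set ↥(alternatingGroup (Fin 8)))) ≤ 16 := by
  set σ : Perm (Fin 8) := swap 0 1 * swap 1 2 * swap 2 3 * swap 4 5
  have hs : σ ∈ alternatingGroup (Fin 8) := by rw [Equiv.Perm.mem_alternatingGroup]; decide
  have hpow : σ ^ 4 = 1 := by decide
  refine ⟨⟨σ, hs⟩, Subtype.ext hpow, ?_⟩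
  have hc : σ.cycleType = {4, 2} := by decide +kernel
  have h := Equiv.Perm.nat_card_centralizer σ
  rw [hc] at h
  have h16 : Nat.card ↥(centralizer ({σ} : Set (Perm (Fin 8)))) = 16 := by rw [h]; decide
  rw [← h16]
  refine Nat.card_le_card_of_injective (fun x => ⟨((x : ↥(alternatingGroup (Fin 8))) : Perm (Fin 8)), ?_⟩) ?_
  · exact mem_centralizer_singleton_iff.mpr (congrArg Subtype.val (mem_centralizer_singleton_iff.mp x.2))
  · intro x x' h
    exact Subtype.ext (Subtype.ext (congrArg Subtype.val h :))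

theorem two_part {n k i : ℕ} (h : 2 ^ k * i = n) (hi : ¬ 2 ∣ i) (j m : ℕ) (hm : ¬ 2 ∣ m) (hn : n = 2 ^ j * m) :
    k = j := by
  have h1 : 2 ^ k ∣ 2 ^ j * m := hn ▸ h ▸ dvd_mul_right _ _
  have h2 : 2 ^ j ∣ 2 ^ k * i := h.symm ▸ hn ▸ dvd_mul_right _ _
  have h3 := (Nat.pow_dvd_pow_iff_le_right Nat.one_lt_two).mp
    (((Nat.Prime.coprime_iff_not_dvd Nat.prime_two).mpr hm).pow_left k |>.dvd_of_dvd_mul_right h1)
  have h4 := (Nat.pow_dvd_pow_iff_le_right Nat.one_lt_two).mp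
    (((Nat.Prime.coprime_iff_not_dvd Nat.prime_two).mpr hi).pow_left j |>.dvd_of_dvd_mul_right h2)
  omega

theorem card_sylow_alt (P : Sylow 2 ↥(alternatingGroup (Fin 8))) :
    Nat.card ↥(P : Subgroup ↥(alternatingGroup (Fin 8))) = 64 := by
  haveI : Fact (Nat.Prime 2) := ⟨Nat.prime_two⟩
  obtain ⟨k, hk⟩ := IsPGroup.iff_card.mp P.isPGroup'
  have h := (P : Subgroup ↥(alternatingGroup (Fin 8))).card_mul_index
  have hcard : Nat.card ↥(alternatingGroup (Fin 8)) = 20160 := by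
    rw [nat_card_alternatingGroup, Nat.card_fin]
    decide
  rw [hk] at h
  rw [hk, two_part h P.not_dvd_index 6 315 (by norm_num) (by rw [hcard]; norm_num)]
  norm_num

variable {G : Type u} [Group G] [Finite G]

theorem normal_aux (hphi : ∀ (L : Type u) [Group L] [Finite L], IsSimpleGroup L → ¬ IsMulCommutative L →
      Fus.Gold.Conclusion L)
    (S : Sylow 2 G) (P : Sylow 2 ↥(alternatingGroup (Fin 8)))
    (hS : Nonempty (↥(S : Subgroup G) ≃* ↥(P : Subgroup ↥(alternatingGroup (Fin 8)))))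
    (h3 : Nat.card {c : ConjClasses G // ∃ x ∈ c.carrier, orderOf x = 2} = 3)
    (A : Subgroup G) (hA : Cfsg.IsElementaryAbelian 2 A) (hA16 : Nat.card ↥A = 16)
    (hNA : ∃ (_ : (A.subgroupOf (normalizer (A : Set G)) ⊔ Cfsg.oddCore ↥(normalizer (A : Set G))).Normal),
      Nonempty (↥(normalizer (A : Set G)) ⧸
        (A.subgroupOf (normalizer (A : Set G)) ⊔ Cfsg.oddCore ↥(normalizer (A : Set G))) ≃*
          ↥(alternatingGroup (Fin 5)))) :
    (A ⊔ Cfsg.oddCore G).Normal := by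
  classical
  haveI : Fact (Nat.Prime 2) := ⟨Nat.prime_two⟩
  obtain ⟨hKn, ⟨e⟩⟩ := hNA
  set N := normalizer (A : Set G) with hNdef
  set A' := A.subgroupOf N with hA'
  set O := Cfsg.oddCore ↥N with hOdef
  haveI hOn : O.Normal := pPrimeCore_isNormal
  haveI hA'n : A'.Normal := normal_subgroupOf_of_le_normalizer le_rfl
  set K := A' ⊔ O with hKdef
  have hOodd : ¬ 2 ∣ Nat.card ↥O := pPrimeCore_not_dvd
  have hA'c : Nat.card ↥A' = 16 := (Nat.card_congr (subgroupOfEquivOfLe le_normalizer).toEquiv).trans hA16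
  have hAO : A' ⊓ O = ⊥ := Grp.inf_eq_bot_of_coprime (by
    rw [hA'c, show (16 : ℕ) = 2 ^ 4 from rfl]
    exact ((Nat.Prime.coprime_iff_not_dvd Nat.prime_two).mpr hOodd).pow_left 4)
  have hOA : O ≤ centralizer (A' : Set ↥N) := by
    refine commutator_eq_bot_iff_le_centralizer.mp (le_bot_iff.mp ?_)
    rw [← hAO, inf_comm]
    exact commutator_le_inf O A'
  -- the action on `A`
  let act : ↥N →* MulAut ↥A := A.normalizerMonoidHom
  have hact : ∀ (n : ↥N) (x : ↥A), ((act n x : ↥A) : G) = (n : G) * x * (n : G)⁻¹ := fun n x => rfl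
  have hker : K ≤ act.ker := by
    refine sup_le (fun n hn => ?_) (fun n hn => ?_)
    · refine MonoidHom.mem_ker.mpr (MulEquiv.ext fun x => Subtype.ext ?_)
      rw [hact, MulAut.one_apply, elemAb_comm hA _ (mem_subgroupOf.mp hn) _ x.2, mul_inv_cancel_right]
    · refine MonoidHom.mem_ker.mpr (MulEquiv.ext fun x => Subtype.ext ?_)
      rw [hact, MulAut.one_apply]
      have h : (x : G) * n = n * x :=
        congrArg Subtype.val (mem_centralizer_iff.mp (hOA hn) ⟨x, le_normalizer x.2⟩ (mem_subgroupOf.mpr x.2))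
      rw [← h, mul_inv_cancel_right]
  let ρ : A5 →* MulAut ↥A := (QuotientGroup.lift K act hker).comp e.symm.toMonoidHom
  have hρact : ∀ n : ↥N, ρ (e (QuotientGroup.mk n)) = act n := fun n => by
    show QuotientGroup.lift K act hker (e.symm (e _)) = _
    rw [MulEquiv.symm_apply_apply]
    rfl
  have hlift : ∀ g : A5, ∃ n : ↥N, e (QuotientGroup.mk n) = g := fun g => by
    obtain ⟨n, hn⟩ := QuotientGroup.mk_surjective (e.symm g)
    exact ⟨n, by rw [hn, MulEquiv.apply_symm_apply]⟩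
  -- a Sylow subgroup of `N` is one of `G`
  obtain ⟨T₀, hT₀⟩ : ∃ T₀ : Sylow 2 ↥N, A' ≤ (T₀ : Subgroup ↥N) := by
    have : IsPGroup 2 ↥A' := (elemAb_isPGroup hA).comap_subtype
    exact this.exists_le_sylow
  have hKc : Nat.card ↥K = 16 * Nat.card ↥O := by
    have h := card_sup_mul_card_inf_normal (H := A') (N := O)
    rw [hAO, card_bot, mul_one, hA'c] at h
    exact h
  have hNc : Nat.card ↥N = 2 ^ 6 * (15 * Nat.card ↥O) := by
    rw [card_eq_card_quotient_mul_card_subgroup K, Nat.card_congr e.toEquiv, hKc, card_A5]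
    ring
  have hT₀c : Nat.card ↥(T₀ : Subgroup ↥N) = 64 := by
    obtain ⟨k, hk⟩ := IsPGroup.iff_card.mp T₀.isPGroup'
    have h := (T₀ : Subgroup ↥N).card_mul_index
    rw [hk] at h
    rw [hk, two_part h T₀.not_dvd_index 6 (15 * Nat.card ↥O)
      (fun hd => by rcases (Nat.Prime.dvd_mul Nat.prime_two).mp hd with h' | h' <;> [norm_num at h'; exact hOodd h'])
      hNc]
    norm_num
  obtain ⟨iso⟩ := hS
  have hSc : Nat.card ↥(S : Subgroup G) = 64 := (Nat.card_congr iso.toEquiv).trans (card_sylow_alt P)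
  set T' := (T₀ : Subgroup ↥N).map N.subtype with hT'
  have hT'c : Nat.card ↥T' = 64 := (card_map_of_injective N.subtype_injective).trans hT₀c
  obtain ⟨T, hT⟩ := (T₀.isPGroup'.map N.subtype).exists_le_sylow
  have hTc : Nat.card ↥(T : Subgroup G) = 64 :=
    (Nat.card_congr (Sylow.equiv T S).toEquiv).trans hSc
  have hTT' : T' = (T : Subgroup G) := eq_of_le_of_card_ge hT (by rw [hTc, hT'c])
  have hTN : (T : Subgroup G) ≤ N := hTT' ▸ map_subtype_le _
  have hAT : A ≤ (T : Subgroup G) := fun x hx => hTT' ▸ ⟨⟨x, le_normalizer hx⟩, hT₀ (mem_subgroupOf.mpr hx), rfl⟩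
  have hTK : ∀ t ∈ (T : Subgroup G), ∀ h : t ∈ N, (⟨t, h⟩ : ↥N) ∈ K → t ∈ A := by
    intro t ht h hK
    refine mem_subgroupOf.mp (pElement_mem_of_sup (W := A') (O := O) pPrimeCore_coprime hK ?_)
    have h1 : IsPGroup 2 ↥((T : Subgroup G).subgroupOf N) := T.isPGroup'.comap_subtype
    exact h1.to_le (zpowers_le.mpr ht)
  -- the action is not trivial
  have hρ : ρ ≠ 1 := by
    intro h
    obtain ⟨y, hy4, hyc⟩ := exists_small
    have hyp : IsPGroup 2 ↥(zpowers y) := by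
      rintro ⟨_, i, rfl⟩
      refine ⟨2, Subtype.ext ?_⟩
      show (y ^ i) ^ (2 ^ 2) = 1
      rw [← zpow_natCast, ← zpow_mul, mul_comm, zpow_mul, zpow_natCast]
      norm_num [hy4]
    obtain ⟨Q, hQ⟩ := hyp.exists_le_sylow
    obtain ⟨c, hc⟩ := MulAction.exists_smul_eq ↥(alternatingGroup (Fin 8)) Q P
    have hyP : c * y * c⁻¹ ∈ (P : Subgroup ↥(alternatingGroup (Fin 8))) := by
      rw [← hc, Sylow.coe_subgroup_smul, ← map_conj_eq_smul]
      exact ⟨y, hQ (mem_zpowers y), rfl⟩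
    let f : ↥(T : Subgroup G) ≃* ↥(P : Subgroup ↥(alternatingGroup (Fin 8))) := (Sylow.equiv T S).trans iso
    set t := f.symm ⟨_, hyP⟩
    have hcent : ∀ a ∈ A, (t : G) * a = a * t := by
      intro a ha
      have h1 : act ⟨t, hTN t.2⟩ = 1 := by rw [← hρact, h]; rfl
      have h2 := congrArg (fun φ : MulAut ↥A => ((φ ⟨a, ha⟩ : ↥A) : G)) h1
      simp only [hact, MulAut.one_apply] at h2
      exact mul_inv_eq_iff_eq_mul.mp h2
    -- the centralizer of `t` in `T` has order at least 32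
    set C := centralizer ({t} : Set ↥(T : Subgroup G))
    have hC16 : Nat.card ↥C ≤ 16 := by
      refine le_trans ?_ hyc
      refine Nat.card_le_card_of_injective (fun x : ↥C => (⟨c⁻¹ * ((f (x : ↥(T : Subgroup G)) : ↥(P : Subgroup ↥(alternatingGroup (Fin 8)))) : ↥(alternatingGroup (Fin 8))) * c, ?_⟩ : ↥(centralizer ({y} : Set ↥(alternatingGroup (Fin 8)))))) ?_
      · refine mem_centralizer_singleton_iff.mpr ?_
        have h1 := congrArg (fun z : ↥(T : Subgroup G) => ((f z : ↥(P : Subgroup ↥(alternatingGroup (Fin 8)))) : ↥(alternatingGroup (Fin 8))))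
          (mem_centralizer_singleton_iff.mp x.2)
        simp only [map_mul, t, MulEquiv.apply_symm_apply, Subgroup.coe_mul] at h1
        set z := ((f (x : ↥(T : Subgroup G)) : ↥(P : Subgroup ↥(alternatingGroup (Fin 8)))) : ↥(alternatingGroup (Fin 8)))
        calc c⁻¹ * z * c * y = c⁻¹ * (z * (c * y * c⁻¹)) * c := by group
          _ = c⁻¹ * (c * y * c⁻¹ * z) * c := by rw [h1]
          _ = y * (c⁻¹ * z * c) := by group
      · intro x x' hx
        have h1 := congrArg Subtype.val hx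
        simp only [mul_left_inj, mul_right_inj] at h1
        exact Subtype.ext (f.injective (Subtype.ext h1))
    have hAC : A.subgroupOf (T : Subgroup G) ≤ C := fun x hx =>
      mem_centralizer_singleton_iff.mpr (Subtype.ext (hcent x (mem_subgroupOf.mp hx)).symm)
    have hAeq : A.subgroupOf (T : Subgroup G) = C := eq_of_le_of_card_ge hAC
      (hC16.trans (le_of_eq ((Nat.card_congr (subgroupOfEquivOfLe hAT).toEquiv).trans hA16).symm))
    have htA : (t : G) ∈ A := mem_subgroupOf.mp (hAeq ▸ mem_centralizer_singleton_iff.mpr rfl : t ∈ A.subgroupOf (T : Subgroup G))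
    have htop : C = ⊤ := eq_top_iff.mpr fun x _ => mem_centralizer_singleton_iff.mpr (Subtype.ext (by
      have h1 : act ⟨x, hTN x.2⟩ = 1 := by rw [← hρact, h]; rfl
      have h2 := congrArg (fun φ : MulAut ↥A => ((φ ⟨t, htA⟩ : ↥A) : G)) h1
      simp only [hact, MulAut.one_apply] at h2
      exact mul_inv_eq_iff_eq_mul.mp h2))
    rw [htop, card_top, hTc] at hC16
    omega
  have hsq : ∀ x : ↥A, x * x = 1 := fun x => Subtype.ext (by
    show (x : G) * x = 1
    rw [← pow_two]; exact hA.2 _ x.2)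
  have hinjρ := injective ρ hsq hA16 hρ
  have hself : ∀ t ∈ (T : Subgroup G), (∀ a ∈ A, t * a = a * t) → t ∈ A := by
    intro t ht h
    refine hTK t ht (hTN ht) ((QuotientGroup.eq_one_iff _).mp (e.injective ?_))
    rw [map_one]
    refine hinjρ ?_
    rw [map_one, hρact]
    refine MulEquiv.ext fun x => Subtype.ext ?_
    rw [hact, MulAut.one_apply]
    show t * x * t⁻¹ = x
    rw [h x x.2, mul_inv_cancel_right]
  -- outside involutions are conjugate
  have hout : ∀ t t' : ↥N, t * t = 1 → t' * t' = 1 → t ∉ K → t' ∉ K → ∃ n : ↥N, n * t * n⁻¹ = t' := by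
    intro t t' ht ht' htK ht'K
    have him : ∀ s : ↥N, s * s = 1 → s ∉ K → e (QuotientGroup.mk s) * e (QuotientGroup.mk s) = 1 ∧ e (QuotientGroup.mk s) ≠ 1 :=
      fun s hs hsK => ⟨by rw [← map_mul, ← QuotientGroup.mk_mul, hs, QuotientGroup.mk_one, map_one], fun h =>
        hsK ((QuotientGroup.eq_one_iff _).mp (e.injective (h.trans (map_one e).symm)))⟩
    obtain ⟨g, hg⟩ := conj_involution _ (him t ht htK).1 (him t ht htK).2
    obtain ⟨g', hg'⟩ := conj_involution _ (him t' ht' ht'K).1 (him t' ht' ht'K).2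
    obtain ⟨n, hn⟩ := hlift (g' * g⁻¹)
    set t1 := n * t * n⁻¹ with ht1
    have ht1sq : t1 * t1 = 1 := by rw [ht1, show n * t * n⁻¹ * (n * t * n⁻¹) = n * (t * t) * n⁻¹ by group, ht]; simp
    have himg : e (QuotientGroup.mk t1) = e (QuotientGroup.mk t') := by
      rw [ht1, QuotientGroup.mk_mul, QuotientGroup.mk_mul, QuotientGroup.mk_inv, map_mul, map_mul, map_inv, hn, ← hg, ← hg']
      group
    have hk : t1 * t' ∈ K := by
      refine (QuotientGroup.eq_one_iff _).mp (e.injective ?_)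
      rw [QuotientGroup.mk_mul, map_mul, himg, (him t' ht' ht'K).1, map_one]
    obtain ⟨p, hp, o, ho, hpo⟩ := mem_sup_of_normal_right.mp hk
    have hpsq : p * p = 1 := Subtype.ext (by
      have h2 := hA.2 (p : G) (mem_subgroupOf.mp hp)
      rwa [pow_two] at h2)
    have hcommpo : ∀ w ∈ O, ∀ q ∈ A', q * w = w * q := fun w hw q hq => mem_centralizer_iff.mp (hOA hw) q hq
    -- the involution `t1` inverts `o` and centralizes `p`
    have hinv : t1 * (p * o) * t1⁻¹ = o⁻¹ * p := by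
      have e1 : t1⁻¹ = t1 := inv_eq_of_mul_eq_one_right ht1sq
      have e2 : t'⁻¹ = t' := inv_eq_of_mul_eq_one_right ht'
      calc t1 * (p * o) * t1⁻¹ = t1 * (t1 * t') * t1⁻¹ := by rw [hpo]
        _ = t' * t1 := by rw [← mul_assoc, ht1sq, one_mul, e1]
        _ = (t1 * t')⁻¹ := by rw [mul_inv_rev, e1, e2]
        _ = o⁻¹ * p := by rw [← hpo, mul_inv_rev, inv_eq_of_mul_eq_one_right hpsq]
    have hsplit : t1 * p * t1⁻¹ = p ∧ t1 * o * t1⁻¹ = o⁻¹ := by
      have hp' : t1 * p * t1⁻¹ ∈ A' := hA'n.conj_mem p hp t1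
      have ho' : t1 * o * t1⁻¹ ∈ O := hOn.conj_mem o ho t1
      have h1 : p⁻¹ * (t1 * p * t1⁻¹) = o⁻¹ * (t1 * o * t1⁻¹)⁻¹ := by
        have h2 : (t1 * p * t1⁻¹) * (t1 * o * t1⁻¹) = p * o⁻¹ := by
          rw [show (t1 * p * t1⁻¹) * (t1 * o * t1⁻¹) = t1 * (p * o) * t1⁻¹ by group, hinv,
            hcommpo _ (inv_mem ho) p hp]
        calc p⁻¹ * (t1 * p * t1⁻¹) = p⁻¹ * ((t1 * p * t1⁻¹) * (t1 * o * t1⁻¹)) * (t1 * o * t1⁻¹)⁻¹ := by group
          _ = o⁻¹ * (t1 * o * t1⁻¹)⁻¹ := by rw [h2]; group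
      have h3 : p⁻¹ * (t1 * p * t1⁻¹) ∈ A' ⊓ O :=
        ⟨A'.mul_mem (A'.inv_mem hp) hp', h1 ▸ O.mul_mem (O.inv_mem ho) (O.inv_mem ho')⟩
      rw [hAO, mem_bot] at h3
      refine ⟨(inv_mul_eq_one.mp h3).symm, ?_⟩
      rw [h1, mul_eq_one_iff_eq_inv, inv_inv] at h3
      exact h3.symm
    -- a square root of `o`
    obtain ⟨j, hj⟩ : Odd (orderOf o) := Nat.not_even_iff_odd.mp fun he =>
      hOodd ((even_iff_two_dvd.mp he).trans (Subgroup.orderOf_dvd_natCard _ ho))
    set w := o ^ (j + 1)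
    have hw2 : w * w = o := by
      rw [← pow_add, show j + 1 + (j + 1) = (2 * j + 1) + 1 by omega, ← hj, pow_succ, pow_orderOf_eq_one, one_mul]
    have hwinv : t1 * w * t1⁻¹ = w⁻¹ := by
      show t1 * o ^ (j + 1) * t1⁻¹ = (o ^ (j + 1))⁻¹
      rw [← conj_pow, hsplit.2, inv_pow]
    have hwO : w ∈ O := pow_mem ho _
    -- a commutator root of `p`
    set v := e (QuotientGroup.mk t1)
    have hv := him t' ht' ht'K
    rw [← himg] at hv
    obtain ⟨-, hroot⟩ := fix_involution ρ hsq hA16 hρ hv.1 hv.2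
    have hpfix : (⟨(p : G), mem_subgroupOf.mp hp⟩ : ↥A) ∈ fix ρ v := by
      show ρ v _ = _
      rw [hρact]
      refine Subtype.ext ?_
      rw [hact]
      exact congrArg Subtype.val hsplit.1
    obtain ⟨q, hq⟩ := hroot _ hpfix
    rw [hρact] at hq
    have hq' : (q : G) * ((t1 : G) * q * (t1 : G)⁻¹) = p := by
      have := congrArg Subtype.val hq
      simpa [hact] using this
    set qn : ↥N := ⟨q, le_normalizer q.2⟩
    have hq'' : qn * (t1 * qn * t1⁻¹) = p := Subtype.ext hq'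
    have hqA : qn ∈ A' := mem_subgroupOf.mpr q.2
    have hqsq : qn * qn = 1 := Subtype.ext (congrArg Subtype.val (hsq q) :)
    refine ⟨w⁻¹ * qn * n, ?_⟩
    have e1 : t1⁻¹ = t1 := inv_eq_of_mul_eq_one_right ht1sq
    have ha : qn * t1 * qn⁻¹ = t1 * p := by
      have hflip : t1 * (qn * (t1 * qn * t1⁻¹)) = t1 * qn * t1⁻¹ * (t1 * (t1 * qn * t1⁻¹) * t1⁻¹) * t1 := by group
      have hcq : qn * (t1 * qn * t1⁻¹) = (t1 * qn * t1⁻¹) * qn := Subtype.ext
        (elemAb_comm hA _ q.2 _ ((mem_normalizer_iff.mp t1.2 _).mp q.2))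
      rw [← hq'', hcq, inv_eq_of_mul_eq_one_right hqsq, e1]
      simp only [← mul_assoc]
      rw [ht1sq, one_mul]
    have hwp : w * p = p * w := (hcommpo w hwO p hp).symm
    calc w⁻¹ * qn * n * t * (w⁻¹ * qn * n)⁻¹ = w⁻¹ * (qn * t1 * qn⁻¹) * w := by rw [ht1]; group
      _ = w⁻¹ * (t1 * p) * w := by rw [ha]
      _ = (w⁻¹ * t1) * (p * w) := by group
      _ = (w⁻¹ * t1) * (w * p) := by rw [hwp]
      _ = w⁻¹ * (t1 * w * t1⁻¹) * (t1 * p) := by group
      _ = (w * w)⁻¹ * t1 * p := by rw [hwinv]; group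
      _ = t1 * (p * o) := by
        have h2 := hsplit.2
        rw [mul_inv_eq_iff_eq_mul] at h2
        rw [hw2]
        calc o⁻¹ * t1 * p = t1 * o * p := by rw [h2]
          _ = t1 * (p * o) := by rw [mul_assoc, hcommpo o ho p hp]
      _ = t' := by rw [hpo, ← mul_assoc, ht1sq, one_mul]
  -- strongly closed
  have hscA : Cfsg.IsStronglyClosed A (T : Subgroup G) := by
    refine ⟨hAT, fun x hx g hg => ?_⟩
    by_contra hnot
    have hx1 : x ≠ 1 := fun h => hnot (by rw [h, mul_one, mul_inv_cancel]; exact A.one_mem)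
    set t := g * x * g⁻¹
    have hxsq : x * x = 1 := by rw [← pow_two]; exact hA.2 x hx
    have htsq : t * t = 1 := by
      rw [show g * x * g⁻¹ * (g * x * g⁻¹) = g * (x * x) * g⁻¹ by group, hxsq, mul_one, mul_inv_cancel]
    have htK : (⟨t, hTN hg⟩ : ↥N) ∉ K := fun h => hnot (hTK t hg _ h)
    have hrep : ∀ c : {c : ConjClasses G // ∃ x ∈ c.carrier, orderOf x = 2},
        ∃ a : ↥A, a ≠ 1 ∧ ConjClasses.mk (a : G) = c.1 := by
      rintro ⟨c, z, hzc, hz⟩
      have hzp : IsPGroup 2 ↥(zpowers z) := IsPGroup.of_card (n := 1) (by rw [Nat.card_zpowers, hz, pow_one])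
      obtain ⟨R, hR⟩ := hzp.exists_le_sylow
      obtain ⟨h, hh⟩ := MulAction.exists_smul_eq G R T
      have hzT : h * z * h⁻¹ ∈ (T : Subgroup G) := by
        rw [← hh, Sylow.coe_subgroup_smul, ← map_conj_eq_smul]
        exact ⟨z, hR (mem_zpowers z), rfl⟩
      have hc : ConjClasses.mk (h * z * h⁻¹) = c := by
        rw [← ConjClasses.mem_carrier_iff_mk_eq.mp hzc]
        exact ConjClasses.mk_eq_mk_iff_isConj.mpr (isConj_iff.mpr ⟨h⁻¹, by group⟩)
      have hz1 : h * z * h⁻¹ ≠ 1 := fun e1 => by rw [conj_eq_one_iff.mp e1, orderOf_one] at hz; norm_num at hz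
      by_cases hzA : h * z * h⁻¹ ∈ A
      · exact ⟨⟨_, hzA⟩, fun e1 => hz1 (congrArg Subtype.val e1), hc⟩
      · have hzsq : h * z * h⁻¹ * (h * z * h⁻¹) = 1 := by
          rw [show h * z * h⁻¹ * (h * z * h⁻¹) = h * (z * z) * h⁻¹ by group, ← pow_two, ← hz, pow_orderOf_eq_one]
          simp
        obtain ⟨n, hn⟩ := hout ⟨t, hTN hg⟩ ⟨_, hTN hzT⟩ (Subtype.ext htsq) (Subtype.ext hzsq) htK
          (fun h' => hzA (hTK _ hzT _ h'))
        refine ⟨⟨x, hx⟩, fun e1 => hx1 (congrArg Subtype.val e1), ?_⟩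
        show ConjClasses.mk x = c
        rw [← hc]
        refine ConjClasses.mk_eq_mk_iff_isConj.mpr (isConj_iff.mpr ⟨(n : G) * g, ?_⟩)
        have h2 := congrArg Subtype.val hn
        simp only [Subgroup.coe_mul, Subgroup.coe_inv] at h2
        rw [← h2]
        show (n : G) * g * x * ((n : G) * g)⁻¹ = _
        simp only [t]; group
    haveI : Fintype {c : ConjClasses G // ∃ x ∈ c.carrier, orderOf x = 2} := Fintype.ofFinite _
    rw [Nat.card_eq_fintype_card, ← Finset.card_univ, Finset.card_eq_three] at h3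
    obtain ⟨c1, c2, c3, h12, h13, h23, -⟩ := h3
    obtain ⟨a1, ha1, hc1⟩ := hrep c1
    obtain ⟨a2, ha2, hc2⟩ := hrep c2
    obtain ⟨a3, ha3, hc3⟩ := hrep c3
    have hfuse : ∀ p q : ↥A, (∃ g, ρ g p = q) → ConjClasses.mk (p : G) = ConjClasses.mk (q : G) := by
      rintro p q ⟨g, rfl⟩
      obtain ⟨n, hn⟩ := hlift g
      refine ConjClasses.mk_eq_mk_iff_isConj.mpr (isConj_iff.mpr ⟨(n : G), ?_⟩)
      rw [← hn, hρact, hact]
    rcases two_of_three ρ hsq hA16 hρ a1 a2 a3 ha1 ha2 ha3 with h | h | h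
    · exact h12 (Subtype.ext (hc1.symm.trans ((hfuse _ _ h).trans hc2)))
    · exact h13 (Subtype.ext (hc1.symm.trans ((hfuse _ _ h).trans hc3)))
    · exact h23 (Subtype.ext (hc2.symm.trans ((hfuse _ _ h).trans hc3)))
  -- modulo the odd core
  haveI hGn : (Cfsg.oddCore G).Normal := pPrimeCore_isNormal
  set π := QuotientGroup.mk' (Cfsg.oddCore G)
  set B := A.map π
  have hinjA : ∀ x ∈ A, π x = 1 → x = 1 := fun x hx h => by
    have hd : orderOf x ∣ Nat.card ↥(Cfsg.oddCore G) :=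
      Subgroup.orderOf_dvd_natCard _ ((QuotientGroup.eq_one_iff x).mp h)
    exact pow_eq_one_coprime (p := 2) (k := 1) (by rw [pow_one]; exact hA.2 x hx)
      (pPrimeCore_coprime.coprime_dvd_left hd)
  let fA : ↥A →* ↥B := (π.comp A.subtype).codRestrict B fun a => ⟨a, a.2, rfl⟩
  have hfA : Function.Bijective fA := by
    refine ⟨(injective_iff_map_eq_one fA).mpr fun a h => Subtype.ext (hinjA a a.2 (congrArg Subtype.val h)), ?_⟩
    rintro ⟨_, a, ha, rfl⟩
    exact ⟨⟨a, ha⟩, rfl⟩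
  let eA : ↥A ≃* ↥B := MulEquiv.ofBijective fA hfA
  let ρB : A5 →* MulAut ↥B := (MulAut.congr eA).toMonoidHom.comp ρ
  have hρBapp : ∀ (n : ↥N) (b : ↥A), ((ρB (e (QuotientGroup.mk n)) (eA b) : ↥B) : G ⧸ Cfsg.oddCore G) =
      π n * π b * (π n)⁻¹ := by
    intro n b
    show π ((ρ (e (QuotientGroup.mk n)) (eA.symm (eA b)) : ↥A) : G) = _
    rw [MulEquiv.symm_apply_apply, hρact, hact, map_mul, map_mul, map_inv]
  have hρB' : ∀ (n : ↥N) (b : ↥B), ((ρB (e (QuotientGroup.mk n)) b : ↥B) : G ⧸ Cfsg.oddCore G) =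
      π n * b * (π n)⁻¹ := by
    intro n b
    have h := hρBapp n (eA.symm b)
    rw [MulEquiv.apply_symm_apply] at h
    rw [h]
    congr 2
    exact congrArg Subtype.val (eA.apply_symm_apply b)
  have hnormmap : N.map π = normalizer (B : Set (G ⧸ Cfsg.oddCore G)) :=
    map_normalizer_pGroup (elemAb_isPGroup hA)
  have hBel : Cfsg.IsElementaryAbelian 2 B := by
    refine ⟨⟨⟨?_⟩⟩, ?_⟩
    · rintro ⟨_, x, hx, rfl⟩ ⟨_, y, hy, rfl⟩
      exact Subtype.ext (show π x * π y = π y * π x by rw [← map_mul, ← map_mul, elemAb_comm hA x hx y hy])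
    · rintro _ ⟨x, hx, rfl⟩
      rw [← map_pow, hA.2 x hx, map_one]
  have hBnorm : B.Normal := by
    refine core_step hphi pPrimeCore_quotient_bot (T.mapSurjective (QuotientGroup.mk'_surjective _)) B hBel
      ((Nat.card_congr eA.toEquiv).symm.trans hA16) ?_ ?_ ρB ?_ ?_ ?_
    · exact Invol.stronglyClosed_map (p := 2) (Cfsg.oddCore G) T hscA
    · rintro _ ⟨t, ht, rfl⟩ hc
      refine ⟨t, hself t ht fun a ha => ?_, rfl⟩
      have hmem : t * a * t⁻¹ * a⁻¹ ∈ A := A.mul_mem ((mem_normalizer_iff.mp (hTN ht) a).mp ha) (A.inv_mem ha)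
      have h1 : π (t * a * t⁻¹ * a⁻¹) = 1 := by
        rw [map_mul, map_mul, map_mul, map_inv, map_inv, hc (π a) ⟨a, ha, rfl⟩, mul_inv_cancel_right, mul_inv_cancel]
      exact mul_inv_eq_iff_eq_mul.mp (mul_inv_eq_one.mp (hinjA _ hmem h1))
    · intro h
      refine hρ (MonoidHom.ext fun g => MulEquiv.ext fun a => eA.injective ?_)
      have h1 : ρB g (eA a) = eA a := by rw [h]; rfl
      have h2 : ρB g (eA a) = eA (ρ g a) := by
        show eA (ρ g (eA.symm (eA a))) = _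
        rw [MulEquiv.symm_apply_apply]
      rw [← h2, h1]; rfl
    · intro g
      obtain ⟨n, rfl⟩ := hlift g
      exact ⟨π n, hnormmap ▸ ⟨n, n.2, rfl⟩, hρB' n⟩
    · intro m hm
      rw [← hnormmap] at hm
      obtain ⟨n, hn, rfl⟩ := hm
      exact ⟨e (QuotientGroup.mk ⟨n, hn⟩), hρB' ⟨n, hn⟩⟩
  have h := hBnorm.comap π
  rwa [comap_map_eq, QuotientGroup.ker_mk'] at h

end Cfsg.Agent.Transfer.AEightA5
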